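import Mathlib.RingTheory.AdicCompletion.AsTensorProduct
import Groth.Agent.DecayLib.Basic

/-! Finite modules over complete Noetherian rings are complete. -/

universe u v

namespace Groth.Agent.FinAdic

open TensorProduct AdicCompletion

theorem isAdicComplete_of_finite_same {A : Type u} [CommRing A] [IsNoetherianRing A] (I : Ideal A) [IsAdicComplete I A]
    (M : Type u) [AddCommGroup M] [Module A M] [Module.Finite A M] : IsAdicComplete I M := by
  apply of_bijective_iff.mp
  have h1 := ofTensorProduct_bijective_of_finite_of_isNoetherian I M
  let e : AdicCompletion I A ⊗[A] M ≃ₗ[A] M :=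
    (TensorProduct.congr (LinearEquiv.ofBijective (of I A) (of_bijective I A)) (LinearEquiv.refl A M)).symm ≪≫ₗ
      TensorProduct.lid A M
  have h2 : ∀ m : M, of I M m = ofTensorProduct I M (e.symm m) := fun m => by
    have : e.symm m = (of I A 1) ⊗ₜ[A] m := by
      apply e.injective
      simp only [LinearEquiv.apply_symm_apply]
      simp [e]
    rw [this, ofTensorProduct_tmul]
    exact (one_smul (AdicCompletion I A) _).symm
  rw [show ⇑(of I M) = (ofTensorProduct I M) ∘ e.symm from funext h2]
  exact h1.comp e.symm.bijective

theorem isAdicComplete_of_finite {A : Type u} [CommRing A] [IsNoetherianRing A] (I : Ideal A) [IsAdicComplete I A]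
    (M : Type v) [AddCommGroup M] [Module A M] [Module.Finite A M] : IsAdicComplete I M := by
  obtain ⟨n, π, hπ⟩ := Module.Finite.exists_fin' A M
  haveI := isAdicComplete_of_finite_same I ((Fin n → A) ⧸ LinearMap.ker π)
  exact DecayLib.isAdicComplete_of_linearEquiv I (π.quotKerEquivOfSurjective hπ)

end Groth.Agent.FinAdic
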